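import Mathlib.Data.ZMod.Basic
import Mathlib.Data.Nat.Prime.Basic
import Mathlib.Algebra.Ring.GeomSum
import Mathlib.Tactic

/-!
# S4933, `3D4(q)`, `3 ∣ q + 1`: the arithmetic (helper912's step (4))

`d * (1 + r ^ k) = (q - 1) (q ^ 3 + 1) (q ^ 8 + q ^ 4 + 1)`, `q = r ^ f`, `q % 3 = 2`, `q < r ^ k` force `r ^ k = q ^ 3`,
so `d = (q - 1) (q ^ 8 + q ^ 4 + 1)`, whose 3-part is 3.
-/

set_option autoImplicit false

namespace Cfsg.Agent.H355.HT

theorem odd_of_mod {r f : ℕ} (h3 : r ^ f % 3 = 2) : Odd f := by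
  rcases Nat.even_or_odd f with ⟨m, rfl⟩ | h
  · exfalso
    rw [← two_mul, pow_mul, Nat.pow_mod] at h3
    have : r ^ 2 % 3 = 0 ∨ r ^ 2 % 3 = 1 := by
      rw [Nat.pow_mod]
      have : r % 3 < 3 := Nat.mod_lt _ (by norm_num)
      interval_cases r % 3 <;> simp
    rcases this with h | h <;> rw [h] at h3
    · rcases Nat.eq_zero_or_pos m with rfl | hm
      · simp at h3
      · rw [zero_pow hm.ne'] at h3; simp at h3
    · rw [one_pow] at h3; simp at h3
  · exact h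

/-- `h ∣ 1 + r ^ k` gives `r ^ k = -1` in `ZMod h` -/
theorem cast_neg {r k h : ℕ} (hd : h ∣ 1 + r ^ k) : (r : ZMod h) ^ k = -1 := by
  have := (ZMod.natCast_eq_zero_iff (1 + r ^ k) h).mpr hd
  push_cast at this
  linear_combination this

theorem dvd_two_of {h : ℕ} (e : (1 : ZMod h) = -1) : h ∣ 2 := by
  rw [← ZMod.natCast_eq_zero_iff]
  push_cast
  linear_combination e

theorem dvd_two_a {r k f h : ℕ} (hf : Odd f) (hk : h ∣ 1 + r ^ k) (hq : (r : ZMod h) ^ (3 * f) = 1) : h ∣ 2 := by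
  refine dvd_two_of ?_
  have e1 := cast_neg hk
  have h3 : Odd (3 * f) := Odd.mul (by decide) hf
  calc (1 : ZMod h) = ((r : ZMod h) ^ (3 * f)) ^ k := by rw [hq, one_pow]
    _ = ((r : ZMod h) ^ k) ^ (3 * f) := by rw [← pow_mul, ← pow_mul, mul_comm]
    _ = -1 := by rw [e1, h3.neg_one_pow]

theorem dvd_two_b {r k f h : ℕ} (ho : Odd k) (hk : h ∣ 1 + r ^ k) (hq : (r : ZMod h) ^ (6 * f) = -1) : h ∣ 2 := by
  refine dvd_two_of ?_
  have e1 := cast_neg hk
  have h6 : Even (6 * f) := ⟨3 * f, by ring⟩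
  calc (1 : ZMod h) = ((r : ZMod h) ^ k) ^ (6 * f) := by rw [e1, h6.neg_one_pow]
    _ = ((r : ZMod h) ^ (6 * f)) ^ k := by rw [← pow_mul, ← pow_mul, mul_comm]
    _ = -1 := by rw [hq, ho.neg_one_pow]

theorem dvd_two_c {r j f h : ℕ} (hf : Odd f) (hk : h ∣ 1 + r ^ (4 * j)) (hq : (r : ZMod h) ^ (12 * f) = 1) : h ∣ 2 := by
  refine dvd_two_of ?_
  have e1 := cast_neg hk
  have h3 : Odd (3 * f) := Odd.mul (by decide) hf
  calc (1 : ZMod h) = ((r : ZMod h) ^ (12 * f)) ^ j := by rw [hq, one_pow]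
    _ = ((r : ZMod h) ^ (4 * j)) ^ (3 * f) := by
      rw [← pow_mul, ← pow_mul]; congr 1; ring
    _ = -1 := by rw [e1, h3.neg_one_pow]

/-- `h ∣ r ^ k + 1, r ^ n + 1`, `k`, `n` odd: `h ∣ r ^ gcd(k, n) + 1` -/
theorem dvd_gcd_add {r k n h : ℕ} (hk : Odd k) (h1 : h ∣ 1 + r ^ k) (h2 : h ∣ 1 + r ^ n) :
    h ∣ 1 + r ^ Nat.gcd k n := by
  obtain ⟨m, hm⟩ := Nat.gcd_dvd_left k n
  have hg : (r : ZMod h) ^ (2 * Nat.gcd k n) = 1 := by
    have a1 : (r : ZMod h) ^ (2 * k) = 1 := by rw [mul_comm, pow_mul, cast_neg h1]; ring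
    have a2 : (r : ZMod h) ^ (2 * n) = 1 := by rw [mul_comm, pow_mul, cast_neg h2]; ring
    have := pow_gcd_eq_one.mpr ⟨a1, a2⟩
    rwa [Nat.gcd_mul_left] at this
  have hmo : Odd m := by
    rw [hm] at hk
    exact (Nat.odd_mul.mp hk).2
  obtain ⟨t, rfl⟩ := hmo
  have e : (r : ZMod h) ^ k = (r : ZMod h) ^ Nat.gcd k n := by
    conv_lhs => rw [hm]
    calc (r : ZMod h) ^ (Nat.gcd k n * (2 * t + 1))
        = ((r : ZMod h) ^ (2 * Nat.gcd k n)) ^ t * (r : ZMod h) ^ Nat.gcd k n := by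
          rw [← pow_mul, ← pow_add]; congr 1; ring
      _ = _ := by rw [hg, one_pow, one_mul]
  rw [← ZMod.natCast_eq_zero_iff]
  push_cast
  rw [← e, cast_neg h1]
  ring

theorem main_eq {q A C E P : ℕ} (hA : A + 1 = q ^ 3) (hC : C + q = q ^ 2 + 1) (hE : E + q ^ 2 = q ^ 4 + 1)
    (hP : P + 1 = q) : P * (q ^ 3 + 1) * (q ^ 8 + q ^ 4 + 1) = A * (q ^ 3 + 1) * C * E := by
  have hA' : (A : ℤ) = (q : ℤ) ^ 3 - 1 := by have : ((A + 1 : ℕ) : ℤ) = ((q ^ 3 : ℕ) : ℤ) := by rw [hA]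
                                             push_cast at this; linarith
  have hC' : (C : ℤ) = (q : ℤ) ^ 2 + 1 - q := by
    have : ((C + q : ℕ) : ℤ) = ((q ^ 2 + 1 : ℕ) : ℤ) := by rw [hC]
    push_cast at this; linarith
  have hE' : (E : ℤ) = (q : ℤ) ^ 4 + 1 - q ^ 2 := by
    have : ((E + q ^ 2 : ℕ) : ℤ) = ((q ^ 4 + 1 : ℕ) : ℤ) := by rw [hE]
    push_cast at this; linarith
  have hP' : (P : ℤ) = (q : ℤ) - 1 := by
    have : ((P + 1 : ℕ) : ℤ) = (q : ℤ) := by rw [hP]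
    push_cast at this; linarith
  zify
  rw [hA', hC', hE', hP']
  ring

set_option maxHeartbeats 1000000 in
theorem deg_three {r f q k d : ℕ} (hr : r.Prime) (hq : q = r ^ f) (h3 : q % 3 = 2) (hk : q < r ^ k)
    (h : d * (1 + r ^ k) = (q - 1) * (q ^ 3 + 1) * (q ^ 8 + q ^ 4 + 1)) :
    r ^ k = q ^ 3 ∧ d = (q - 1) * (q ^ 8 + q ^ 4 + 1) ∧ 3 ∣ d ∧ ¬ 9 ∣ d := by
  have hf : Odd f := odd_of_mod (hq ▸ h3)
  have hr2 := hr.two_le
  have hq2 : 2 ≤ q := by
    by_contra hc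
    have : q % 3 = q := Nat.mod_eq_of_lt (by omega)
    omega
  have hkf : f < k := by
    rw [hq] at hk
    exact (Nat.pow_lt_pow_iff_right hr.one_lt).mp hk
  have hf1 : 1 ≤ f := hf.pos
  obtain ⟨P, hP⟩ : ∃ P, P + 1 = q := ⟨q - 1, by omega⟩
  obtain ⟨A, hA⟩ : ∃ A, A + 1 = q ^ 3 := ⟨q ^ 3 - 1, by have := Nat.pow_pos (n := 3) (show 0 < q by omega); omega⟩
  obtain ⟨C, hC⟩ : ∃ C, C + q = q ^ 2 + 1 := ⟨q ^ 2 + 1 - q, by nlinarith [Nat.sub_add_cancel (show q ≤ q ^ 2 + 1 by nlinarith)]⟩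
  obtain ⟨E, hE⟩ : ∃ E, E + q ^ 2 = q ^ 4 + 1 :=
    ⟨q ^ 4 + 1 - q ^ 2, Nat.sub_add_cancel (by nlinarith [sq_nonneg (q ^ 2), Nat.pow_pos (n := 2) (show 0 < q by omega)])⟩
  have hPq : q - 1 = P := by omega
  rw [hPq] at h ⊢
  have hN := main_eq hA hC hE hP
  have hD : 1 + r ^ k ∣ P * (q ^ 3 + 1) * (q ^ 8 + q ^ 4 + 1) := ⟨d, by rw [← h]; ring⟩
  -- `r ^ 2 ^ e`-type exponents
  have hko : Odd k := by
    by_contra hne
    rw [Nat.not_odd_iff_even] at hne
    obtain ⟨i, hi⟩ := hne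
    rcases Nat.even_or_odd i with ⟨j, hj⟩ | hio
    · -- `4 ∣ k`
      have hk4 : k = 4 * j := by omega
      subst hk4
      have hj1 : 1 ≤ j := by omega
      -- every prime divisor is 2
      have hp2 : ∀ l : ℕ, l.Prime → l ∣ 1 + r ^ (4 * j) → l = 2 := by
        intro l hl hd
        have h12 : l ∣ q ^ 12 - 1 := by
          have hl1 : l ∣ P * (q ^ 3 + 1) * (q ^ 8 + q ^ 4 + 1) := hd.trans hD
          have e12 : (q : ℤ) ^ 12 - 1 = (q - 1) * ((q + 1) * (q ^ 2 + 1) * (q ^ 8 + q ^ 4 + 1)) := by ring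
          have key : ∀ X : ℕ, (X : ℤ) ∣ (q : ℤ) ^ 12 - 1 → X ∣ q ^ 12 - 1 := by
            intro X hX
            rw [← Int.natCast_dvd_natCast, Nat.cast_sub (Nat.one_le_pow _ _ (by omega))]
            push_cast
            exact hX
          have hPc : (P : ℤ) = (q : ℤ) - 1 := by rw [← hP]; push_cast; ring
          rcases (hl.dvd_mul.mp hl1) with h1 | h1
          · rcases (hl.dvd_mul.mp h1) with h2 | h2
            · refine h2.trans (key P ?_)
              rw [hPc, e12]; exact Dvd.intro _ rfl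
            · refine h2.trans (key _ ?_)
              refine ⟨((q : ℤ) ^ 3 - 1) * (q ^ 6 + 1), ?_⟩
              push_cast; ring
          · refine h1.trans (key _ ?_)
            refine ⟨(q : ℤ) ^ 4 - 1, ?_⟩
            push_cast; ring
        have hz : (r : ZMod l) ^ (12 * f) = 1 := by
          have := (ZMod.natCast_eq_zero_iff (q ^ 12 - 1) l).mpr h12
          rw [Nat.cast_sub (Nat.one_le_pow _ _ (by omega)), hq] at this
          push_cast at this
          rw [mul_comm, pow_mul]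
          linear_combination this
        exact (Nat.prime_dvd_prime_iff_eq hl Nat.prime_two).mp (dvd_two_c hf hd hz)
      -- a power of two, at least 5, `≡ 1` or `2` modulo 4
      have hD1 : 1 + r ^ (4 * j) ≠ 1 := by have := Nat.pow_pos (n := 4 * j) (show 0 < r by omega); omega
      have h4 : ¬ 4 ∣ 1 + r ^ (4 * j) := by
        intro h4
        have : r ^ (4 * j) % 4 = 0 ∨ r ^ (4 * j) % 4 = 1 := by
          rw [show 4 * j = (2 * j) * 2 by ring, pow_mul, Nat.pow_mod]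
          have : r ^ (2 * j) % 4 < 4 := Nat.mod_lt _ (by norm_num)
          interval_cases r ^ (2 * j) % 4 <;> simp
        omega
      have h2 : 2 ∣ 1 + r ^ (4 * j) := by
        have := Nat.minFac_dvd (1 + r ^ (4 * j))
        rwa [hp2 _ (Nat.minFac_prime hD1) this] at this
      obtain ⟨c, hc⟩ := h2
      have hc1 : c ≠ 1 := by
        rintro rfl
        have : r ^ 1 ≤ r ^ (4 * j) := Nat.pow_le_pow_right (by omega) (by omega)
        rw [pow_one] at this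
        omega
      have h22 := hp2 _ (Nat.minFac_prime hc1) ((Nat.minFac_dvd c).trans ⟨2, by rw [hc]; ring⟩)
      obtain ⟨e, he⟩ := Nat.minFac_dvd c
      rw [h22] at he
      exact h4 ⟨e, by rw [hc, he]; ring⟩
    · -- `k = 2 i`, `i` odd
      have hk2 : k = 2 * i := by omega
      have h1 : r ^ 2 + 1 ∣ 1 + r ^ k := by
        have := Odd.nat_add_dvd_pow_add_pow (r ^ 2) 1 hio
        rw [one_pow, ← pow_mul, ← hk2, add_comm (r ^ k)] at this
        exact this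
      have h2 := h1.trans hD
      have e1 : (r : ZMod (r ^ 2 + 1)) ^ 2 = -1 := by
        refine cast_neg (k := 2) ?_
        rw [add_comm]
      have e2 : ((q : ℕ) : ZMod (r ^ 2 + 1)) ^ 2 = -1 := by
        rw [hq]; push_cast
        rw [← pow_mul, mul_comm, pow_mul, e1, hf.neg_one_pow]
      have e3 : (P : ZMod (r ^ 2 + 1)) = (q : ZMod (r ^ 2 + 1)) - 1 := by rw [← hP]; push_cast; ring
      have e4 := (ZMod.natCast_eq_zero_iff _ _).mpr h2
      push_cast at e4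
      rw [e3] at e4
      have e5 : ((6 * q : ℕ) : ZMod (r ^ 2 + 1)) = 0 := by
        push_cast
        set x : ZMod (r ^ 2 + 1) := (q : ZMod (r ^ 2 + 1))
        have x3 : x ^ 3 = -x := by linear_combination x * e2
        have x4 : x ^ 4 = 1 := by linear_combination (x ^ 2 - 1) * e2
        have x8 : x ^ 8 = 1 := by linear_combination (x ^ 4 + 1) * x4
        rw [x3, x4, x8] at e4
        linear_combination e4 + 3 * e2
      rw [ZMod.natCast_eq_zero_iff] at e5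
      have hco : Nat.Coprime (r ^ 2 + 1) q := by
        rw [hq]
        refine Nat.Coprime.pow_right _ ?_
        rw [Nat.coprime_comm, hr.coprime_iff_not_dvd]
        intro hd
        have : r ∣ 1 := (Nat.dvd_add_right (dvd_pow_self r (by norm_num))).mp hd
        exact hr.one_lt.ne' (Nat.dvd_one.mp this)
      have e6 := hco.dvd_of_dvd_mul_right e5
      have e7 := Nat.le_of_dvd (by norm_num) e6
      have : r < 3 := by nlinarith
      have : r = 2 := by omega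
      subst this
      revert e6; norm_num
  -- the odd case
  set g := Nat.gcd k (3 * f) with hg
  have h3f : Odd (3 * f) := Odd.mul (by decide) hf
  have hgk : g ∣ k := Nat.gcd_dvd_left _ _
  have hgf : g ∣ 3 * f := Nat.gcd_dvd_right _ _
  have hg1 : 1 ≤ g := Nat.pos_of_dvd_of_pos hgk (by omega)
  obtain ⟨m, hm⟩ := hgk
  have hmo : Odd m := by rw [hm] at hko; exact (Nat.odd_mul.mp hko).2
  have hq3 : q ^ 3 = r ^ (3 * f) := by rw [hq, ← pow_mul, mul_comm]
  have hB : Nat.gcd (1 + r ^ k) (q ^ 3 + 1) ∣ 1 + r ^ g :=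
    dvd_gcd_add hko (Nat.gcd_dvd_left _ _) (by rw [← hq3, add_comm 1 (q ^ 3)]; exact Nat.gcd_dvd_right _ _)
  have hCB : C ∣ q ^ 3 + 1 := by
    refine ⟨q + 1, ?_⟩
    have hC' : (C : ℤ) = (q : ℤ) ^ 2 + 1 - q := by
      have : ((C + q : ℕ) : ℤ) = ((q ^ 2 + 1 : ℕ) : ℤ) := by rw [hC]
      push_cast at this; linarith
    zify; rw [hC']; ring
  have hEB : E ∣ q ^ 6 + 1 := by
    refine ⟨q ^ 2 + 1, ?_⟩
    have hE' : (E : ℤ) = (q : ℤ) ^ 4 + 1 - q ^ 2 := by
      have : ((E + q ^ 2 : ℕ) : ℤ) = ((q ^ 4 + 1 : ℕ) : ℤ) := by rw [hE]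
      push_cast at this; linarith
    zify; rw [hE']; ring
  have gA : Nat.gcd (1 + r ^ k) A ∣ 2 := by
    refine dvd_two_a (f := f) hf (Nat.gcd_dvd_left _ _) ?_
    have h1 : ((A + 1 : ℕ) : ZMod (Nat.gcd (1 + r ^ k) A)) = ((r ^ (3 * f) : ℕ) : ZMod _) := by rw [hA, hq3]
    have h2 := (ZMod.natCast_eq_zero_iff A (Nat.gcd (1 + r ^ k) A)).mpr (Nat.gcd_dvd_right _ _)
    push_cast at h1
    rw [h2] at h1
    rw [← h1]; ring
  have gE : Nat.gcd (1 + r ^ k) E ∣ 2 := by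
    refine dvd_two_b (f := f) hko (Nat.gcd_dvd_left _ _) ?_
    have h2 := (ZMod.natCast_eq_zero_iff (q ^ 6 + 1) (Nat.gcd (1 + r ^ k) E)).mpr
      ((Nat.gcd_dvd_right _ _).trans hEB)
    rw [hq] at h2
    push_cast at h2
    rw [mul_comm, pow_mul]
    linear_combination h2
  have gC : Nat.gcd (1 + r ^ k) C ∣ 1 + r ^ g :=
    (Nat.gcd_dvd_gcd_of_dvd_right _ hCB).trans hB
  have hle : 1 + r ^ k ∣ (Nat.gcd (1 + r ^ k) A * Nat.gcd (1 + r ^ k) E) * ((1 + r ^ g) * (1 + r ^ g)) := by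
    have h1 : 1 + r ^ k ∣ Nat.gcd (1 + r ^ k) (A * (q ^ 3 + 1) * C * E) := by
      rw [← hN]
      exact Nat.dvd_gcd dvd_rfl hD
    refine h1.trans ((Nat.gcd_mul_right_dvd_mul_gcd _ _ _).trans ?_)
    have h2 : Nat.gcd (1 + r ^ k) (A * (q ^ 3 + 1) * C) ∣
        Nat.gcd (1 + r ^ k) A * ((1 + r ^ g) * (1 + r ^ g)) := by
      refine (Nat.gcd_mul_right_dvd_mul_gcd _ _ _).trans ?_
      rw [← mul_assoc]
      refine mul_dvd_mul ?_ gC
      exact (Nat.gcd_mul_right_dvd_mul_gcd _ _ _).trans (mul_dvd_mul dvd_rfl hB)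
    refine (mul_dvd_mul h2 dvd_rfl).trans (dvd_of_eq ?_)
    ring
  have hx1 : 1 ≤ r ^ g := Nat.one_le_pow _ _ (by omega)
  have hm1 : m = 1 := by
    by_contra hne
    have hm3 : 3 ≤ m := by
      obtain ⟨t, rfl⟩ := hmo; omega
    have hpow : (r ^ g) ^ 3 ≤ r ^ k := by
      rw [hm, pow_mul]; exact Nat.pow_le_pow_right (by omega) hm3
    rcases hr.eq_two_or_odd' with h2 | hodd
    · -- `r = 2`
      subst h2
      have hDo : Odd (1 + 2 ^ k) := by
        rw [add_comm]; exact Even.add_one ((Nat.even_pow.mpr ⟨even_two, by omega⟩))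
      have one : ∀ X, Nat.gcd (1 + 2 ^ k) X ∣ 2 → Nat.gcd (1 + 2 ^ k) X = 1 := by
        intro X hX
        rcases (Nat.dvd_prime Nat.prime_two).mp hX with h | h
        · exact h
        · exfalso
          have : 2 ∣ 1 + 2 ^ k := by
            have h0 := Nat.gcd_dvd_left (1 + 2 ^ k) X
            rw [h] at h0; exact h0
          rw [← Nat.not_even_iff_odd] at hDo
          exact hDo (even_iff_two_dvd.mpr this)
      rw [one A gA, one E gE] at hle
      have h5 := Nat.le_of_dvd (by positivity) hle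
      set x := 2 ^ g with hx
      have h6 : 1 + x ^ 3 ≤ (1 + x) * (1 + x) := by
        refine le_trans (Nat.add_le_add_left hpow 1) (h5.trans (by simp))
      have h7 : x ≤ 2 := by
        by_contra hc
        push Not at hc
        nlinarith [mul_pos (show 0 < x by omega) (show 0 < x by omega), Nat.mul_le_mul hc hc]
      have h8 : g ≤ 1 := by
        by_contra hc
        push Not at hc
        have : 2 ^ 2 ≤ 2 ^ g := Nat.pow_le_pow_right (by norm_num) hc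
        omega
      have hg1' : g = 1 := by omega
      have hx2 : x = 2 := by rw [hx, hg1']; norm_num
      rw [hx2] at h5
      have hk3 : k ≤ 3 := by
        by_contra hc
        push Not at hc
        have : 2 ^ 4 ≤ 2 ^ k := Nat.pow_le_pow_right (by norm_num) hc
        omega
      have hk3' : k = 3 := by
        rw [hm, hg1'] at hk3 ⊢; omega
      rw [hk3'] at hg
      rw [Nat.gcd_mul_right_right] at hg
      omega
    · -- `r ≥ 5`
      have hr3 : r ≠ 3 := by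
        rintro rfl
        rw [hq] at h3
        obtain ⟨t, rfl⟩ : ∃ t, f = t + 1 := ⟨f - 1, by omega⟩
        rw [pow_succ, Nat.mul_mod_left] at h3
        omega
      have hr5 : 5 ≤ r := by
        have : r ≠ 2 := by rintro rfl; exact absurd hodd (by decide)
        have : r ≠ 4 := by rintro rfl; exact absurd hr (by decide)
        omega
      have hx5 : 5 ≤ r ^ g := hr5.trans (Nat.le_self_pow (by omega) r)
      have hEo : Nat.gcd (1 + r ^ k) E = 1 := by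
        rcases (Nat.dvd_prime Nat.prime_two).mp gE with h | h
        · exact h
        · exfalso
          have h2E : 2 ∣ E := h ▸ Nat.gcd_dvd_right _ _
          have hqo : Odd q := by rw [hq]; exact hodd.pow
          have h4 : Odd (q ^ 4) := hqo.pow
          have h2 : Odd (q ^ 2) := hqo.pow
          obtain ⟨a, ha⟩ := h4
          obtain ⟨b, hb⟩ := h2
          obtain ⟨c, hc⟩ := h2E
          omega
      rw [hEo, mul_one] at hle
      have hA2 := Nat.le_of_dvd (by norm_num) gA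
      have h5 := Nat.le_of_dvd (by positivity) hle
      set x := r ^ g with hx
      have h6 : 1 + x ^ 3 ≤ 2 * ((1 + x) * (1 + x)) := by
        refine le_trans (Nat.add_le_add_left hpow 1) (h5.trans (Nat.mul_le_mul_right _ hA2))
      have h7 : 5 * x ≤ x * x := Nat.mul_le_mul_right _ hx5
      have h8 : 5 * (x * x) ≤ x * (x * x) := Nat.mul_le_mul_right _ hx5
      have h9 : x ^ 3 = x * (x * x) := by ring
      have h10 : 2 * ((1 + x) * (1 + x)) = 2 + 4 * x + 2 * (x * x) := by ring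
      rw [h9, h10] at h6
      omega
  have hgk' : g = k := by rw [hm, hm1, mul_one]
  have hk3f : k = 3 * f := by
    rw [hgk'] at hgf
    obtain ⟨c, hc⟩ := hgf
    have hco : Odd c := by rw [hc] at h3f; exact (Nat.odd_mul.mp h3f).2
    obtain ⟨t, rfl⟩ := hco
    rcases Nat.eq_zero_or_pos t with rfl | ht
    · rw [hc]; ring
    · exfalso
      nlinarith
  have hrk : r ^ k = q ^ 3 := by rw [hk3f, hq3]
  have hd : d = P * (q ^ 8 + q ^ 4 + 1) := by
    rw [hrk] at h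
    have : d * (1 + q ^ 3) = (P * (q ^ 8 + q ^ 4 + 1)) * (1 + q ^ 3) := by rw [h]; ring
    exact Nat.eq_of_mul_eq_mul_right (by positivity) this
  refine ⟨hrk, hd, ?_⟩
  have hq9 : q % 9 = 2 ∨ q % 9 = 5 ∨ q % 9 = 8 := by omega
  have hP9 : P % 9 = q % 9 - 1 := by omega
  have key : d % 9 = 3 ∨ d % 9 = 6 := by
    rw [hd, Nat.mul_mod, Nat.add_mod, Nat.add_mod (q ^ 8), Nat.pow_mod q 8, Nat.pow_mod q 4, hP9]
    rcases hq9 with h | h | h <;> rw [h] <;> simp
  omega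

/-- the size estimate: `d ≤ (q Φ12) ^ 2` forces `q < R` -/
theorem size {q d R : ℕ} (hq2 : 2 ≤ q) (h : d * (1 + R) = (q - 1) * (q ^ 3 + 1) * (q ^ 8 + q ^ 4 + 1))
    (hd : d ≤ (q * (q ^ 4 - q ^ 2 + 1)) ^ 2) : q < R := by
  by_contra hc
  push Not at hc
  obtain ⟨t, rfl⟩ : ∃ t, q = t + 2 := ⟨q - 2, by omega⟩
  have hE : (t + 2) ^ 4 - (t + 2) ^ 2 + 1 = t ^ 4 + 8 * t ^ 3 + 23 * t ^ 2 + 28 * t + 13 := by
    have : (t + 2) ^ 4 = (t ^ 4 + 8 * t ^ 3 + 23 * t ^ 2 + 28 * t + 12) + (t + 2) ^ 2 := by ring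
    rw [this, Nat.add_sub_cancel]
  have h1 : t + 2 - 1 = t + 1 := by omega
  rw [h1] at h
  rw [hE] at hd
  have h2 : d * (1 + R) ≤ ((t + 2) * (t ^ 4 + 8 * t ^ 3 + 23 * t ^ 2 + 28 * t + 13)) ^ 2 * (1 + (t + 2)) :=
    Nat.mul_le_mul hd (by omega)
  rw [h] at h2
  revert h2
  apply Nat.not_le.mpr
  set S := t ^ 4 + 8 * t ^ 3 + 23 * t ^ 2 + 28 * t + 13 with hS
  have e8 : (t + 2) ^ 8 + (t + 2) ^ 4 + 1 = (t ^ 2 + 5 * t + 7) * (t ^ 2 + 3 * t + 3) * S := by rw [hS]; ring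
  have e3 : (t + 2) ^ 3 + 1 = (t + 3) * (t ^ 2 + 3 * t + 3) := by ring
  rw [e8, e3]
  have key : (t + 2) ^ 2 * S < (t + 1) * (t ^ 2 + 3 * t + 3) * ((t ^ 2 + 5 * t + 7) * (t ^ 2 + 3 * t + 3)) := by
    rw [hS]
    have : (t + 1) * (t ^ 2 + 3 * t + 3) * ((t ^ 2 + 5 * t + 7) * (t ^ 2 + 3 * t + 3)) =
        (t + 2) ^ 2 * (t ^ 4 + 8 * t ^ 3 + 23 * t ^ 2 + 28 * t + 13) +
          (t ^ 7 + 11 * t ^ 6 + 51 * t ^ 5 + 128 * t ^ 4 + 187 * t ^ 3 + 158 * t ^ 2 + 70 * t + 11) := by ring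
    omega
  have hSp : 0 < S := by rw [hS]; omega
  calc ((t + 2) * S) ^ 2 * (1 + (t + 2)) = ((t + 2) ^ 2 * S) * (S * (t + 3)) := by ring
    _ < ((t + 1) * (t ^ 2 + 3 * t + 3) * ((t ^ 2 + 5 * t + 7) * (t ^ 2 + 3 * t + 3))) * (S * (t + 3)) :=
      Nat.mul_lt_mul_of_pos_right key (by positivity)
    _ = _ := by ring

/-- **the arithmetic of the row `3D4(q)`, `3 ∣ q + 1`** -/
theorem deg_three' {r f q k d : ℕ} (hr : r.Prime) (hq : q = r ^ f) (h3 : q % 3 = 2)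
    (hd : d ≤ (q * (q ^ 4 - q ^ 2 + 1)) ^ 2)
    (h : d * (1 + r ^ k) = (q - 1) * (q ^ 3 + 1) * (q ^ 8 + q ^ 4 + 1)) :
    r ^ k = q ^ 3 ∧ d = (q - 1) * (q ^ 8 + q ^ 4 + 1) ∧ 3 ∣ d ∧ ¬ 9 ∣ d := by
  have hq2 : 2 ≤ q := by
    by_contra hc
    have : q % 3 = q := Nat.mod_eq_of_lt (by omega)
    omega
  exact deg_three hr hq h3 (size hq2 h hd) h

end Cfsg.Agent.H355.HT
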