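import Cfsg.Agent.H355.HT.Arith
import Mathlib.Data.Nat.Factorization.Basic

/-!
# S4933, `3D4(q)`, `3 ∣ q + 1`: the arithmetic of route 2 (helper912's box [B])
-/

set_option autoImplicit false

namespace Cfsg.Agent.H355.HT

/-- `q ^ 3 = 1` modulo `q ^ 2 + q + 1` and `q ^ 2 + q + 1 ∣ r ^ k - 1` force `3 f ∣ k` -/
theorem three_dvd {r f k : ℕ} (hr : 2 ≤ r) (hk : 1 ≤ k) (hf : 1 ≤ f)
    (h : ((r ^ f) ^ 2 + r ^ f + 1 : ℕ) ∣ r ^ k - 1) : 3 * f ∣ k := by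
  have h1 : ((r ^ f) ^ 2 + r ^ f + 1 : ℕ) ∣ r ^ (3 * f) - 1 := by
    refine ⟨r ^ f - 1, ?_⟩
    obtain ⟨t, ht⟩ : ∃ t, r ^ f = t + 1 := ⟨r ^ f - 1, by have := Nat.pow_pos (n := f) (show 0 < r by omega); omega⟩
    have h2 : r ^ (3 * f) = (t + 1) ^ 3 := by rw [mul_comm, pow_mul, ht]
    rw [h2, ht, Nat.add_sub_cancel]
    have h3 : (t + 1) ^ 3 = ((t + 1) ^ 2 + (t + 1) + 1) * t + 1 := by ring
    rw [h3, Nat.add_sub_cancel]
  have h2 : ((r ^ f) ^ 2 + r ^ f + 1 : ℕ) ∣ r ^ Nat.gcd k (3 * f) - 1 := by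
    rw [← Nat.pow_sub_one_gcd_pow_sub_one]
    exact Nat.dvd_gcd h h1
  have hg : 1 ≤ Nat.gcd k (3 * f) := Nat.gcd_pos_of_pos_left _ hk
  have hgt : 1 < r ^ Nat.gcd k (3 * f) := Nat.one_lt_pow (by omega) (by omega)
  have h3 := Nat.le_of_dvd (by omega) h2
  have h4 : r ^ (2 * f) < r ^ Nat.gcd k (3 * f) := by
    have : r ^ (2 * f) = (r ^ f) ^ 2 := by rw [mul_comm, pow_mul]
    rw [this]; omega
  have h5 : 2 * f < Nat.gcd k (3 * f) := (Nat.pow_lt_pow_iff_right (by omega)).mp h4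
  obtain ⟨c, hc⟩ := Nat.gcd_dvd_right k (3 * f)
  have hc1 : c = 1 := by
    rcases Nat.lt_or_ge c 2 with hc2 | hc2
    · rcases Nat.eq_zero_or_pos c with h0 | h0
      · exfalso
        rw [h0, mul_zero] at hc
        omega
      · omega
    · exfalso
      have : Nat.gcd k (3 * f) * 2 ≤ Nat.gcd k (3 * f) * c := Nat.mul_le_mul_left _ hc2
      omega
  rw [hc1, mul_one] at hc
  rw [hc]
  exact Nat.gcd_dvd_left _ _

/-- `j = 3` is impossible -/
theorem no_nine {q P d : ℕ} (hq : 2 ≤ q) (hP : P + 1 = q)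
    (h : d * (1 + q ^ 9) = P * ((q ^ 3 + 1) * (q ^ 8 + q ^ 4 + 1))) : False := by
  have hP' : (P : ℤ) = (q : ℤ) - 1 := by
    have : ((P + 1 : ℕ) : ℤ) = (q : ℤ) := by rw [hP]
    push_cast at this; linarith
  have h' : (d : ℤ) * (1 + (q : ℤ) ^ 9) = ((q : ℤ) - 1) * (((q : ℤ) ^ 3 + 1) * ((q : ℤ) ^ 8 + (q : ℤ) ^ 4 + 1)) := by
    have := congrArg (Nat.cast (R := ℤ)) h
    push_cast at this
    rw [hP'] at this
    exact this
  have hqz : (2 : ℤ) ≤ q := by exact_mod_cast hq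
  generalize (q : ℤ) = Q at h' hqz
  generalize (d : ℤ) = D at h'
  have hQ3 : Q ^ 3 + 1 ≠ 0 := by positivity
  have h1 : D * (Q ^ 6 - Q ^ 3 + 1) = (Q - 1) * (Q ^ 8 + Q ^ 4 + 1) := by
    apply mul_left_cancel₀ hQ3
    linear_combination h'
  have h2 : Q ^ 6 - Q ^ 3 + 1 ∣ Q ^ 4 - Q ^ 2 - Q + 2 :=
    ⟨Q ^ 3 - Q ^ 2 + 1 - D, by linear_combination h1⟩
  obtain ⟨t, rfl⟩ : ∃ t, Q = t + 2 := ⟨Q - 2, by ring⟩
  have ht0 : 0 ≤ t := by linarith
  have e1 : (t + 2) ^ 4 - (t + 2) ^ 2 - (t + 2) + 2 = t ^ 4 + 8 * t ^ 3 + 23 * t ^ 2 + 27 * t + 12 := by ring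
  have h6 : (0 : ℤ) < (t + 2) ^ 4 - (t + 2) ^ 2 - (t + 2) + 2 := by rw [e1]; positivity
  have h7 := Int.le_of_dvd h6 h2
  have h8 : (t + 2) ^ 6 - (t + 2) ^ 3 + 1 - ((t + 2) ^ 4 - (t + 2) ^ 2 - (t + 2) + 2) =
      t ^ 6 + 12 * t ^ 5 + 59 * t ^ 4 + 151 * t ^ 3 + 211 * t ^ 2 + 153 * t + 45 := by ring
  have h9 : (0 : ℤ) < t ^ 6 + 12 * t ^ 5 + 59 * t ^ 4 + 151 * t ^ 3 + 211 * t ^ 2 + 153 * t + 45 := by positivity
  linarith

theorem core {r f q k d n : ℕ} (hr : r.Prime) (hq : q = r ^ f) (h3 : q % 3 = 2) (hd0 : 0 < d)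
    (h : d * (1 + r ^ k) = (q - 1) * ((q ^ 3 + 1) * (q ^ 8 + q ^ 4 + 1)))
    (hn : n * r ^ k = q ^ 11 * (r ^ k - 1) ^ 2) (hn3 : n % 3 = 1) (hm : (q ^ 2 + q + 1) ^ 2 ∣ n) :
    d.factorization 3 = 1 := by
  have hf : Odd f := odd_of_mod (hq ▸ h3)
  have hr2 := hr.two_le
  have hq2 : 2 ≤ q := by
    by_contra hc
    have : q % 3 = q := Nat.mod_eq_of_lt (by omega)
    omega
  have hf1 : 1 ≤ f := hf.pos
  have hr3 : r % 3 = 2 := by
    have h1 : r % 3 = 0 ∨ r % 3 = 1 ∨ r % 3 = 2 := by omega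
    rcases h1 with h1 | h1 | h1
    · exfalso
      rw [hq, Nat.pow_mod, h1, zero_pow (by omega)] at h3
      omega
    · exfalso
      rw [hq, Nat.pow_mod, h1, one_pow] at h3
      omega
    · exact h1
  -- `k` is odd
  have hko : Odd k := by
    by_contra hne
    rw [Nat.not_odd_iff_even] at hne
    obtain ⟨i, rfl⟩ := hne
    have h1 : r ^ (i + i) % 3 = 1 := by
      rw [← two_mul, pow_mul, Nat.pow_mod, Nat.pow_mod r 2, hr3]
      simp
    have h2 : (r ^ (i + i) - 1) % 3 = 0 := by omega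
    have h4 : (n * r ^ (i + i)) % 3 = 1 := by rw [Nat.mul_mod, hn3, h1]
    have h5 : (q ^ 11 * (r ^ (i + i) - 1) ^ 2) % 3 = 0 := by
      rw [Nat.mul_mod, Nat.pow_mod (r ^ (i + i) - 1), h2]
      simp
    rw [hn, h5] at h4
    omega
  have hk1 : 1 ≤ k := hko.pos
  have hrk : 2 ≤ r ^ k := le_trans (by simpa using hr2) (Nat.pow_le_pow_right (show 0 < r by omega) hk1)
  -- `q ^ 2 + q + 1 ∣ r ^ k - 1`
  have hco : Nat.Coprime (q ^ 2 + q + 1) q := by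
    have h1 : q ^ 2 + q + 1 = 1 + q * (q + 1) := by ring
    rw [h1]
    exact (Nat.coprime_add_mul_left_left 1 q (q + 1)).mpr (Nat.coprime_one_left q)
  have hdv : q ^ 2 + q + 1 ∣ r ^ k - 1 := by
    have h1 : (q ^ 2 + q + 1) ^ 2 ∣ q ^ 11 * (r ^ k - 1) ^ 2 := by
      rw [← hn]; exact hm.mul_right _
    have h2 : Nat.Coprime ((q ^ 2 + q + 1) ^ 2) (q ^ 11) := Nat.Coprime.pow _ _ hco
    exact (Nat.pow_dvd_pow_iff (by norm_num)).mp (h2.dvd_of_dvd_mul_left h1)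
  have hdk : 3 * f ∣ k := three_dvd hr2 hk1 hf1 (by rw [← hq]; exact hdv)
  obtain ⟨j, hj⟩ := hdk
  have hjo : Odd j := by rw [hj] at hko; exact (Nat.odd_mul.mp hko).2
  -- `k ≤ 11 f`
  have hle : k ≤ 11 * f := by
    have h1 : r ^ k ∣ q ^ 11 * (r ^ k - 1) ^ 2 := by rw [← hn]; exact Dvd.intro_left _ rfl
    have h2 : Nat.Coprime (r ^ k) ((r ^ k - 1) ^ 2) := by
      refine Nat.Coprime.pow_right _ ?_
      have h4 : Nat.Coprime (r ^ k - 1 + 1) (r ^ k - 1) := by simp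
      rwa [Nat.sub_add_cancel (by omega)] at h4
    have h5 := h2.dvd_of_dvd_mul_right h1
    rw [hq, ← pow_mul] at h5
    have := (Nat.pow_dvd_pow_iff_le_right hr.one_lt).mp h5
    linarith
  have hj3 : j = 1 ∨ j = 3 := by
    obtain ⟨t, rfl⟩ := hjo
    have : t ≤ 1 := by
      by_contra hc
      push Not at hc
      nlinarith
    omega
  have hrk3 : r ^ k = q ^ (3 * j) := by rw [hj, hq, ← pow_mul]; congr 1; ring
  obtain ⟨P, hP⟩ : ∃ P, P + 1 = q := ⟨q - 1, by omega⟩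
  have hPq : q - 1 = P := by omega
  rw [hPq] at h
  rcases hj3 with rfl | rfl
  · -- the real case
    have hd : d = P * (q ^ 8 + q ^ 4 + 1) := by
      rw [hrk3] at h
      have : d * (1 + q ^ 3) = (P * (q ^ 8 + q ^ 4 + 1)) * (1 + q ^ 3) := by
        rw [show 3 = 3 * 1 from rfl, h]; ring
      exact Nat.eq_of_mul_eq_mul_right (by positivity) this
    have hq9 : q % 9 = 2 ∨ q % 9 = 5 ∨ q % 9 = 8 := by omega
    have hP9 : P % 9 = q % 9 - 1 := by omega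
    have key : d % 9 = 3 ∨ d % 9 = 6 := by
      rw [hd, Nat.mul_mod, Nat.add_mod, Nat.add_mod (q ^ 8), Nat.pow_mod q 8, Nat.pow_mod q 4, hP9]
      rcases hq9 with h | h | h <;> rw [h] <;> simp
    have ha : 3 ^ 1 ∣ d := by rw [pow_one]; omega
    have hb : ¬ 3 ^ 2 ∣ d := by rw [show 3 ^ 2 = 9 from rfl]; omega
    have hp3 : Nat.Prime 3 := Nat.prime_three
    have h1 := (hp3.pow_dvd_iff_le_factorization hd0.ne').mp ha
    have h2 : ¬ 2 ≤ d.factorization 3 := fun hc => hb ((hp3.pow_dvd_iff_le_factorization hd0.ne').mpr hc)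
    omega
  · -- `k = 9 f`
    exfalso
    rw [hrk3] at h
    exact no_nine hq2 hP h

/-- **the arithmetic of route 2** -/
theorem fac_three {r f q d d' n : ℕ} (hr : r.Prime) (hq : q = r ^ f) (h3 : 3 ∣ q + 1) (hd : 0 < d) (hd' : 0 < d')
    (hs : d + d' = (q - 1) * ((q ^ 3 + 1) * (q ^ 8 + q ^ 4 + 1))) (h1 : d ∣ q ^ 11 * d') (h2 : d' ∣ q ^ 11 * d)
    (hn : (n : ℤ) * (d * d') = q ^ 11 * (d - d') ^ 2) (hn3 : n % 3 = 1) (hm : (q ^ 2 + q + 1) ^ 2 ∣ n) :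
    d.factorization 3 = 1 := by
  have hq3 : q % 3 = 2 := by omega
  obtain ⟨g, a, b, hg, hco, ha, hb⟩ := Nat.exists_coprime' (m := d) (n := d') (Nat.gcd_pos_of_pos_left _ hd)
  have ha0 : 0 < a := Nat.pos_of_ne_zero (by rintro rfl; simp at ha; omega)
  have hb0 : 0 < b := Nat.pos_of_ne_zero (by rintro rfl; simp at hb; omega)
  have pw : ∀ {x y : ℕ}, Nat.Coprime x y → x * g ∣ q ^ 11 * (y * g) → ∃ i, x = r ^ i := by
    intro x y hxy hd
    have h4 : x ∣ q ^ 11 * y := by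
      refine Nat.dvd_of_mul_dvd_mul_right hg ?_
      rw [mul_assoc]; exact hd
    have h5 := hxy.dvd_of_dvd_mul_right h4
    rw [hq, ← pow_mul] at h5
    obtain ⟨i, -, hi⟩ := (Nat.dvd_prime_pow hr).mp h5
    exact ⟨i, hi⟩
  obtain ⟨i, hi⟩ := pw hco (by rw [← ha, ← hb]; exact h1)
  obtain ⟨j, hj⟩ := pw hco.symm (by rw [← ha, ← hb]; exact h2)
  have hcase : i = 0 ∨ j = 0 := by
    by_contra hc
    push Not at hc
    have h4 : r ∣ a := by rw [hi]; exact dvd_pow_self r hc.1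
    have h5 : r ∣ b := by rw [hj]; exact dvd_pow_self r hc.2
    have := Nat.dvd_gcd h4 h5
    rw [hco] at this
    exact hr.one_lt.ne' (Nat.dvd_one.mp this)
  have sq : ∀ {x k : ℕ}, 0 < x → (n : ℤ) * ((x : ℤ) * ((x : ℤ) * (r : ℤ) ^ k)) = (q : ℤ) ^ 11 * ((x : ℤ) * (r : ℤ) ^ k - x) ^ 2 →
      n * r ^ k = q ^ 11 * (r ^ k - 1) ^ 2 := by
    intro x k hx he
    have hr1 : 1 ≤ r ^ k := Nat.one_le_pow _ _ hr.pos
    zify [hr1]
    have hx' : (x : ℤ) ^ 2 ≠ 0 := by positivity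
    apply mul_left_cancel₀ hx'
    linear_combination he
  rcases hcase with h0 | h0
  · subst h0
    rw [pow_zero] at hi
    rw [hi, one_mul] at ha
    have hb' : d' = d * r ^ j := by rw [hb, hj, ha, mul_comm]
    refine core (k := j) hr hq hq3 hd ?_ (sq hd ?_) hn3 hm
    · rw [← hs, hb']; ring
    · rw [hb'] at hn
      push_cast at hn
      linear_combination hn
  · subst h0
    rw [pow_zero] at hj
    rw [hj, one_mul] at hb
    have ha' : d = d' * r ^ i := by rw [ha, hi, hb, mul_comm]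
    have h5 : d'.factorization 3 = 1 := by
      refine core (k := i) hr hq hq3 hd' ?_ (sq hd' ?_) hn3 hm
      · rw [← hs, ha']; ring
      · rw [ha'] at hn
        push_cast at hn
        linear_combination hn
    have hr3 : r ≠ 3 := by
      rintro rfl
      rcases Nat.eq_zero_or_pos f with h6 | h6
      · subst h6; rw [pow_zero] at hq; omega
      · have : 3 ∣ q := by rw [hq]; exact dvd_pow_self 3 h6.ne'
        omega
    rw [ha', Nat.factorization_mul hd'.ne' (pow_pos hr.pos i).ne', Finsupp.add_apply, h5, Nat.factorization_pow,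
      Finsupp.smul_apply, hr.factorization, Finsupp.single_eq_of_ne hr3.symm]
    simp

end Cfsg.Agent.H355.HT
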